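import Cfsg.Agent.H851.Dg.Count
import Cfsg.Agent.H200.LinFixC

/-!
# S5733, BS-R7: elements of order divisible by large primes in linear groups (helper991)

* `no_both` : no element has order divisible by two large primes with different exponents;
* `count_lin` : for a large prime `u` at least `|T| / (2 N)` elements of `T` have order divisible by `u`;
* `nd_ge` : the lower bound for `nd R` if large primes are missing for all exponents in a set `D`.
-/

set_option autoImplicit false

namespace Cfsg.Agent.H991.BS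

open Module Cfsg.Agent.H200.LinFix Cfsg.Agent.H851.Dg

section lin

variable {F : Type*} [Field F] {ι : Type*} [Fintype ι] [DecidableEq ι] {H : Type*} [Group H]

/-- a linear group acts by endomorphisms -/
noncomputable def rep (ρ : H →* Matrix.GeneralLinearGroup ι F) : H →* Module.End F (ι → F) where
  toFun h := Matrix.toLin' ((ρ h : Matrix.GeneralLinearGroup ι F) : Matrix ι ι F)
  map_one' := by rw [map_one, Units.val_one, Matrix.toLin'_one]; rfl
  map_mul' a b := by rw [map_mul, Units.val_mul, Matrix.toLin'_mul]; rfl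

theorem rep_injective {ρ : H →* Matrix.GeneralLinearGroup ι F} (hρ : Function.Injective ρ) :
    Function.Injective (rep ρ) := by
  intro a b hab
  exact hρ (Units.ext (Matrix.toLin'.injective hab))

variable {V : Type*} [AddCommGroup V] [Module F V] [Finite V]

/-- the commutator space of one element lies in that of the other -/
theorem R_le {u u' e e' : ℕ} [Fact u.Prime] [Fact u'.Prime] (he : Ordd u (Nat.card F) e)
    (he' : Ordd u' (Nat.card F) e') (huF : (u : F) ≠ 0) (huF' : (u' : F) ≠ 0) (hc : finrank F V < 2 * e)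
    (hc' : finrank F V < 2 * e') {Y Z : Module.End F V} (hY : Y ^ u = 1) (hZ : Z ^ u' = 1) (hZ1 : Z ≠ 1)
    (hYZ : Y * Z = Z * Y) : R Y ≤ R Z := by
  have hfd : FiniteDimensional F V := Module.Finite.of_finite
  -- the dimension of `R Z`
  have h1 : e' ≤ finrank F (R Z) := by
    have h2 : finrank F (R Z) ≠ 0 := by
      intro h
      rw [Submodule.finrank_eq_zero] at h
      exact R_ne_bot hZ1 h
    exact Nat.le_of_dvd (Nat.pos_of_ne_zero h2) (dvd_finrank_R he' huF' hZ)
  have h3 := finrank_add Z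
  have h4 : K Z ⊓ R Y = ⊥ := by
    have h5 : e ∣ finrank F (K Z ⊓ R Y : Submodule F V) :=
      dvd_finrank_le he huF hY inf_le_right fun w hw => ⟨K_inv hYZ hw.1, R_inv rfl hw.2⟩
    have h6 : finrank F (K Z ⊓ R Y : Submodule F V) ≤ finrank F (K Z) := Submodule.finrank_mono inf_le_left
    have h7 := Nat.eq_zero_of_dvd_of_lt h5 (by omega)
    exact Submodule.finrank_eq_zero.1 h7
  intro v hv
  obtain ⟨k, hk, r, hr, rfl⟩ := decomp_mem hZ huF' (U := R Y) (fun w hw => R_inv hYZ.symm hw) hv
  rw [h4, Submodule.mem_bot] at hk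
  rw [hk, zero_add]
  exact hr.1

theorem finrank_R_eq {u e : ℕ} [Fact u.Prime] (he : Ordd u (Nat.card F) e) (huF : (u : F) ≠ 0)
    (hc : finrank F V < 2 * e) {Y : Module.End F V} (hY : Y ^ u = 1) (hY1 : Y ≠ 1) : finrank F (R Y) = e := by
  have hfd : FiniteDimensional F V := Module.Finite.of_finite
  have h2 : finrank F (R Y) ≠ 0 := by
    intro h
    rw [Submodule.finrank_eq_zero] at h
    exact R_ne_bot hY1 h
  obtain ⟨c, hc'⟩ := dvd_finrank_R he huF hY
  have h3 : finrank F (R Y) ≤ finrank F V := Submodule.finrank_le _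
  rw [hc'] at h2 h3 ⊢
  have h4 : c = 1 := by
    have h5 : c ≠ 0 := fun h => h2 (by rw [h, mul_zero])
    have h6 : c < 2 := by
      by_contra h
      push Not at h
      have := Nat.mul_le_mul_left e h
      omega
    omega
  rw [h4, mul_one]

/-- **Large primes with different exponents do not divide the order of an element.** -/
theorem no_both [Finite F] [Finite H] {ρ : H →* Matrix.GeneralLinearGroup ι F} (hρ : Function.Injective ρ)
    {u u' e e' : ℕ} (hu : u.Prime) (hu' : u'.Prime) (he : Ordd u (Nat.card F) e) (he' : Ordd u' (Nat.card F) e')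
    (huF : (u : F) ≠ 0) (huF' : (u' : F) ≠ 0) (hc : Fintype.card ι < 2 * e) (hc' : Fintype.card ι < 2 * e')
    (hne : e ≠ e') (h : H) (h1 : u ∣ orderOf h) (h2 : u' ∣ orderOf h) : False := by
  have := Fact.mk hu
  have := Fact.mk hu'
  have hpow : ∀ v : ℕ, v.Prime → v ∣ orderOf h → ∃ y : H, y ^ v = 1 ∧ y ≠ 1 ∧ ∃ k : ℕ, y = h ^ k := by
    intro v hv hd
    obtain ⟨k, hk⟩ := hd
    have hk0 : k ≠ 0 := by
      rintro rfl
      rw [mul_zero] at hk
      exact (orderOf_pos h).ne' hk
    refine ⟨h ^ k, ?_, ?_, k, rfl⟩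
    · rw [← pow_mul, mul_comm, ← hk, pow_orderOf_eq_one]
    · intro h3
      have h4 := orderOf_dvd_of_pow_eq_one h3
      rw [hk] at h4
      have h5 := Nat.le_of_dvd (Nat.pos_of_ne_zero hk0) h4
      have h6 : 2 * k ≤ v * k := Nat.mul_le_mul_right _ hv.two_le
      omega
  obtain ⟨y, hy, hy1, i, hi⟩ := hpow u hu h1
  obtain ⟨z, hz, hz1, j, hj⟩ := hpow u' hu' h2
  have hyz : y * z = z * y := by rw [hi, hj, ← pow_add, ← pow_add, add_comm]
  have hV : finrank F (ι → F) = Fintype.card ι := Module.finrank_fintype_fun_eq_card F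
  have hinj := rep_injective hρ
  have hY : (rep ρ y) ^ u = 1 := by rw [← map_pow, hy, map_one]
  have hZ : (rep ρ z) ^ u' = 1 := by rw [← map_pow, hz, map_one]
  have hY1 : rep ρ y ≠ 1 := fun h => hy1 (hinj (h.trans (map_one _).symm))
  have hZ1 : rep ρ z ≠ 1 := fun h => hz1 (hinj (h.trans (map_one _).symm))
  have hYZ : rep ρ y * rep ρ z = rep ρ z * rep ρ y := by rw [← map_mul, ← map_mul, hyz]
  rw [← hV] at hc hc'
  have h3 := R_le he he' huF huF' hc hc' hY hZ hZ1 hYZ
  have h4 := R_le he' he huF' huF hc' hc hZ hY hY1 hYZ.symm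
  have h5 := finrank_R_eq he huF hc hY hY1
  have h6 := finrank_R_eq he' huF' hc' hZ hZ1
  rw [le_antisymm h3 h4, h6] at h5
  exact hne h5.symm

/-- the subgroups of order a power of a large prime are cyclic -/
theorem cycP_lin [Finite F] [Finite H] {ρ : H →* Matrix.GeneralLinearGroup ι F} (hρ : Function.Injective ρ)
    {u e : ℕ} (hu : u.Prime) (he : Ordd u (Nat.card F) e) (huF : (u : F) ≠ 0) (hc : Fintype.card ι < 2 * e) :
    CycP u H := by
  have := Fact.mk hu
  intro P hP
  refine isCyclic_of (F := F) (V := ι → F) (p := u) (d := e) hP ((rep ρ).comp P.subtype)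
    ((rep_injective hρ).comp P.subtype_injective) he huF ?_
  rw [Module.finrank_fintype_fun_eq_card]
  exact hc

end lin

section quot

variable {H T : Type*} [Group H] [Finite H] [Group T] (π : H →* T)

theorem dvd_orderOf_of_dvd {u : ℕ} (hu : u.Prime) (hk : ¬ u ∣ Nat.card π.ker) {h : H} (hd : u ∣ orderOf h) :
    u ∣ orderOf (π h) := by
  have h1 : h ^ orderOf (π h) ∈ π.ker := by
    rw [MonoidHom.mem_ker, map_pow, pow_orderOf_eq_one]
  have h2 : h ^ (orderOf (π h) * Nat.card π.ker) = 1 := by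
    rw [pow_mul]
    have h3 : (⟨h ^ orderOf (π h), h1⟩ : π.ker) ^ Nat.card π.ker = 1 := pow_card_eq_one'
    exact congrArg Subtype.val h3
  exact (hu.dvd_mul.1 (hd.trans (orderOf_dvd_of_pow_eq_one h2))).resolve_right hk

theorem card_sing_le (hπ : Function.Surjective π) {u : ℕ} (hu : u.Prime) (hk : ¬ u ∣ Nat.card π.ker) :
    Nat.card {h : H // u ∣ orderOf h} ≤ Nat.card π.ker * Nat.card {t : T // u ∣ orderOf t} := by
  classical
  have : Finite T := Finite.of_surjective π hπ
  choose s hs using hπ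
  rw [← Nat.card_prod]
  refine Nat.card_le_card_of_injective (fun h : {h : H // u ∣ orderOf h} =>
    ((⟨h.1 * (s (π h.1))⁻¹, by rw [MonoidHom.mem_ker, map_mul, map_inv, hs, mul_inv_cancel]⟩ : π.ker),
      (⟨π h.1, dvd_orderOf_of_dvd π hu hk h.2⟩ : {t : T // u ∣ orderOf t}))) ?_
  rintro ⟨a, ha⟩ ⟨b, hb⟩ hab
  have h1 : π a = π b := congrArg Subtype.val (congrArg Prod.snd hab)
  have h2 : a * (s (π a))⁻¹ = b * (s (π b))⁻¹ := congrArg Subtype.val (congrArg Prod.fst hab)
  rw [h1] at h2
  exact Subtype.ext (mul_right_cancel h2)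

theorem card_eq_ker_mul (hπ : Function.Surjective π) : Nat.card H = Nat.card π.ker * Nat.card T := by
  rw [Subgroup.card_eq_card_quotient_mul_card_subgroup π.ker, mul_comm]
  congr 1
  exact Nat.card_congr (QuotientGroup.quotientKerEquivOfSurjective π hπ).toEquiv

end quot

section lin2

variable {F : Type*} [Field F] [Finite F] {ι : Type*} [Fintype ι] [DecidableEq ι] {H T : Type*} [Group H] [Finite H]
  [Group T]

/-- **The count.** -/
theorem count_lin {ρ : H →* Matrix.GeneralLinearGroup ι F} (hρ : Function.Injective ρ) (π : H →* T)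
    (hπ : Function.Surjective π) {u e : ℕ} (hu : u.Prime) (he : Ordd u (Nat.card F) e) (huF : (u : F) ≠ 0)
    (hc : Fintype.card ι < 2 * e) (hk : ¬ u ∣ Nat.card π.ker) (hd : u ∣ Nat.card T) :
    Nat.card T ≤ 2 * Fintype.card ι * Nat.card {t : T // u ∣ orderOf t} := by
  have := Fact.mk hu
  have hT : Finite T := Finite.of_surjective π hπ
  have h0 := card_eq_ker_mul π hπ
  have h1 := sing_pow huF ρ hρ (cycP_lin hρ hu he huF hc) (j := 1) le_rfl
    (by rw [pow_one, h0]; exact Dvd.dvd.mul_left hd _)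
  have h2 := card_sing_le π hπ hu hk
  rw [pow_one, h0] at h1
  have h3 : 0 < Nat.card π.ker := Nat.card_pos
  refine Nat.le_of_mul_le_mul_left (h1.trans ?_) h3
  calc 2 * Fintype.card ι * Nat.card {h : H // u ∣ orderOf h}
      ≤ 2 * Fintype.card ι * (Nat.card π.ker * Nat.card {t : T // u ∣ orderOf t}) := Nat.mul_le_mul_left _ h2
    _ = _ := by ring

/-- the same for the quotient -/
theorem no_both_quot {ρ : H →* Matrix.GeneralLinearGroup ι F} (hρ : Function.Injective ρ) (π : H →* T)
    (hπ : Function.Surjective π) {u u' e e' : ℕ} (hu : u.Prime) (hu' : u'.Prime) (he : Ordd u (Nat.card F) e)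
    (he' : Ordd u' (Nat.card F) e') (huF : (u : F) ≠ 0) (huF' : (u' : F) ≠ 0) (hc : Fintype.card ι < 2 * e)
    (hc' : Fintype.card ι < 2 * e') (hne : e ≠ e') (t : T) (h1 : u ∣ orderOf t) (h2 : u' ∣ orderOf t) : False := by
  obtain ⟨h, rfl⟩ := hπ t
  exact no_both hρ hu hu' he he' huF huF' hc hc' hne h (h1.trans (orderOf_map_dvd π h)) (h2.trans (orderOf_map_dvd π h))

end lin2

section sum

/-- disjoint sets of elements without conjugates in `R` -/
theorem sum_le_nd {T : Type*} [Group T] [Finite T] {R : Subgroup T} (D : Finset ℕ) (U : ℕ → ℕ)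
    (hU : ∀ e ∈ D, ¬ U e ∣ Nat.card R)
    (hdis : ∀ e ∈ D, ∀ e' ∈ D, e ≠ e' → ∀ t : T, U e ∣ orderOf t → U e' ∣ orderOf t → False) :
    ∑ e ∈ D, Nat.card {t : T // U e ∣ orderOf t} ≤ nd R := by
  classical
  have : Fintype T := Fintype.ofFinite T
  have h1 : ∀ e, Nat.card {t : T // U e ∣ orderOf t} = (Finset.univ.filter fun t : T => U e ∣ orderOf t).card := by
    intro e
    rw [Nat.card_eq_fintype_card, Fintype.card_subtype]
  rw [Finset.sum_congr rfl fun e _ => h1 e, ← Finset.card_biUnion]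
  · rw [nd, Nat.card_eq_fintype_card, Fintype.card_subtype]
    refine Finset.card_le_card fun t ht => ?_
    obtain ⟨e, he, ht⟩ := Finset.mem_biUnion.1 ht
    have ht' : U e ∣ orderOf t := (Finset.mem_filter.1 ht).2
    refine Finset.mem_filter.2 ⟨Finset.mem_univ _, fun g hg => hU e he ?_⟩
    have h2 : orderOf (g * t * g⁻¹) = orderOf t := by
      have := orderOf_injective (MulAut.conj g).toMonoidHom (MulAut.conj g).injective t
      simpa using this
    have h3 : orderOf (⟨g * t * g⁻¹, hg⟩ : R) = orderOf t := by rw [Subgroup.orderOf_mk, h2]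
    rw [← h3] at ht'
    exact ht'.trans (orderOf_dvd_natCard _)
  · intro e he e' he' hne
    refine Finset.disjoint_left.2 fun t ht ht' => ?_
    exact hdis e he e' he' hne t (Finset.mem_filter.1 ht).2 (Finset.mem_filter.1 ht').2

/-- **The lower bound.** -/
theorem nd_ge {T : Type*} [Group T] [Finite T] {R : Subgroup T} (D : Finset ℕ) (U : ℕ → ℕ) {N : ℕ} (hN : 0 < N)
    (hD : N ≤ 200 * D.card) (hU : ∀ e ∈ D, ¬ U e ∣ Nat.card R)
    (hdis : ∀ e ∈ D, ∀ e' ∈ D, e ≠ e' → ∀ t : T, U e ∣ orderOf t → U e' ∣ orderOf t → False)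
    (hcount : ∀ e ∈ D, Nat.card T ≤ 2 * N * Nat.card {t : T // U e ∣ orderOf t}) :
    Nat.card T ≤ 400 * nd R := by
  have h1 := sum_le_nd D U hU hdis
  have h2 : D.card * Nat.card T ≤ 2 * N * ∑ e ∈ D, Nat.card {t : T // U e ∣ orderOf t} := by
    rw [Finset.mul_sum, ← smul_eq_mul, ← Finset.sum_const]
    exact Finset.sum_le_sum hcount
  have h3 : N * Nat.card T ≤ N * (400 * nd R) := by
    calc N * Nat.card T ≤ 200 * D.card * Nat.card T := Nat.mul_le_mul_right _ hD
      _ = 200 * (D.card * Nat.card T) := by ring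
      _ ≤ 200 * (2 * N * ∑ e ∈ D, Nat.card {t : T // U e ∣ orderOf t}) := Nat.mul_le_mul_left _ h2
      _ ≤ 200 * (2 * N * nd R) := Nat.mul_le_mul_left _ (Nat.mul_le_mul_left _ h1)
      _ = N * (400 * nd R) := by ring
  exact Nat.le_of_mul_le_mul_left h3 hN

end sum

end Cfsg.Agent.H991.BS
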